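import Cfsg.Agent.SG2.CSa

/-!
# Standard `G₂(2ⁿ)`, split case: the normaliser of `R̃`
-/

set_option autoImplicit false
set_option linter.unusedSectionVars false

namespace Cfsg.Lib.SG2

open Subgroup Cfsg.Lib.Trans Cfsg.Lib.Gold
open scoped commutatorElement

namespace CSx

section Gen

variable {G : Type*} [Group G]

/-- The elements of `Z` fixing `a` modulo the central subgroup `R`. -/
def stab (Z R : Subgroup G) (hZ : Z ≤ Cs R) (a : G) : Subgroup G where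
  carrier := {u | u ∈ Z ∧ ⁅u, a⁆ ∈ R}
  one_mem' := ⟨one_mem _, by rw [commutatorElement_one_left]; exact one_mem _⟩
  mul_mem' := by
    rintro u v ⟨hu, hu'⟩ ⟨hv, hv'⟩
    refine ⟨mul_mem hu hv, ?_⟩
    have e : ⁅u * v, a⁆ = u * ⁅v, a⁆ * u⁻¹ * ⁅u, a⁆ := by
      simp only [commutatorElement_def]; group
    rw [e, conj_eq_of_mem_centralizer (hZ hu) hv']
    exact mul_mem hv' hu'
  inv_mem' := by
    rintro u ⟨hu, hu'⟩
    refine ⟨inv_mem hu, ?_⟩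
    have e : ⁅u⁻¹, a⁆ = u⁻¹ * ⁅u, a⁆⁻¹ * u := by
      simp only [commutatorElement_def]; group
    rw [e, conj_eq_of_mem_centralizer' (hZ hu) (inv_mem hu')]
    exact inv_mem hu'

theorem onto [Finite G] {A B W : Subgroup G} (hc : A ≤ Cs B) (hW : W ≤ A ⊔ B) (hd : W ⊓ A = ⊥)
    (hcard : Nat.card W = Nat.card B) {b : G} (hb : b ∈ B) : ∃ a ∈ A, a * b ∈ W := by
  have ex : ∀ w : W, ∃ b : B, ∃ a ∈ A, (w : G) = a * b := fun w => by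
    obtain ⟨a, ha, b, hb, e⟩ := dec hc (hW w.2)
    exact ⟨⟨b, hb⟩, a, ha, e⟩
  choose f hf using ex
  have inj : Function.Injective f := by
    intro w w' e
    obtain ⟨a, ha, e1⟩ := hf w
    obtain ⟨a', ha', e2⟩ := hf w'
    have : (w : G) * (w' : G)⁻¹ ∈ W ⊓ A := by
      refine mem_inf.2 ⟨mul_mem w.2 (inv_mem w'.2), ?_⟩
      rw [e1, e2, e, mul_inv_rev, mul_assoc, mul_inv_cancel_left]
      exact mul_mem ha (inv_mem ha')
    rw [hd, mem_bot, mul_inv_eq_one] at this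
    exact Subtype.ext this
  obtain ⟨w, hw⟩ := (inj.bijective_of_nat_card_le hcard.ge).2 ⟨b, hb⟩
  obtain ⟨a, ha, e⟩ := hf w
  rw [hw] at e
  exact ⟨a, ha, e ▸ w.2⟩

end Gen

variable {G F : Type*} [Group G] [Finite G] [Field F] [Finite F]
  {x : ZMod 12 → F → G} {t : G} {X : Subgroup G} {y z : ZMod 12 → F → G}

variable (h : FS x t y z X)
include h

theorem zr_dec {n : G} (hn : n ∈ X ⊓ Cs (rt y 3 ⊔ rt z 3)) (hM : n ∈ Ns (LL y ⊔ LL z)) :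
    ∃ p ∈ PA y ⊔ PA z, p⁻¹ * n ∈ Cs (LL y ⊔ LL z) := by
  obtain ⟨n1, n2⟩ := h.nsw ⟨hn.1, hM⟩
  obtain ⟨p, hp, hc⟩ := h.sy.cR n1 (Cs_anti le_sup_left hn.2)
  have hp2 : p ∈ Cs (LL z) := (es h).le_Cs (PA_le_LL hp)
  obtain ⟨q, hq, hc'⟩ := h.sz.cR (g := p⁻¹ * n) (mul_mem (inv_mem (Cs_le_Ns hp2)) n2)
    (mul_mem (inv_mem (Cs_anti (rt_le_LL 3) hp2)) (Cs_anti le_sup_right hn.2))
  refine ⟨p * q, mul_mem (mem_sup_left hp) (mem_sup_right hq), ?_⟩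
  rw [mul_inv_rev, mul_assoc]
  have hq1 : q ∈ Cs (LL y) := (es h).symm.le_Cs (PA_le_LL hq)
  have : LL y ⊔ LL z ≤ Cs (zpowers (q⁻¹ * (p⁻¹ * n))) :=
    sup_le (le_Cs_comm.1 (zpowers_le.2 (mul_mem (inv_mem hq1) hc)))
      (le_Cs_comm.1 (zpowers_le.2 hc'))
  exact le_Cs_comm.1 this (mem_zpowers _)

theorem P_le_ZR : PA y ⊔ PA z ≤ X ⊓ Cs (rt y 3 ⊔ rt z 3) :=
  le_inf (P_le_X h) (le_Cs_comm.1 (R_le_Cs h))

theorem syl_ZR : IsSylowIn 2 (UU y ⊔ UU z) (X ⊓ Cs (rt y 3 ⊔ rt z 3)) :=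
  h.syl.mono ((U_le_P h).trans (P_le_ZR h)) inf_le_left

theorem t_Ns_ZR : t ∈ Ns (X ⊓ Cs (rt y 3 ⊔ rt z 3)) :=
  mem_Ns_inf (t_mem_NsX h) (mem_Ns_Cs (t_Ns_R h))

theorem ok_ZR : Oc (X ⊓ Cs (rt y 3 ⊔ rt z 3)) ≤ Cs (LL y ⊔ LL z) := by
  refine ok h (t_Ns_ZR h) (P_le_ZR h) fun n hn => ?_
  obtain ⟨p, hp, hc⟩ := zr_dec h hn.1 hn.2
  rw [← mul_inv_cancel_left p n]
  exact mul_mem (le_normalizer hp) (Cs_le_Ns (Cs_anti (P_le_L h) hc))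

theorem S_le_Cs : UU y ⊔ rt z 3 ≤ Cs (UU z) :=
  sup_le (le_Cs' h UU_le_LL UU_le_LL) (h.sz.s.R_le_Cs.trans (Cs_anti UU_le_PA))

/-- `U₁ R₂` is strongly closed in `Ũ` with respect to `C_X(R̃)`. -/
theorem sc_S {a g : G} (ha : a ∈ UU y ⊔ rt z 3) (hg : g ∈ X ⊓ Cs (rt y 3 ⊔ rt z 3))
    (hb : g * a * g⁻¹ ∈ UU y ⊔ UU z) : g * a * g⁻¹ ∈ UU y ⊔ rt z 3 := by
  set Z := X ⊓ Cs (rt y 3 ⊔ rt z 3) with hZ
  have hUZ : UU y ⊔ UU z ≤ Z := (U_le_P h).trans (P_le_ZR h)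
  have haU : a ∈ UU y ⊔ UU z := sup_le_sup_left R_le_UU _ ha
  obtain ⟨b1, hb1, b2, hb2, e⟩ := decU h hb
  rw [e]
  refine mul_mem (mem_sup_left hb1) (mem_sup_right ?_)
  by_contra hR
  obtain ⟨v, hv, hρ, hρ1⟩ := h.sz.s.exists_comm h.sz.inj h.sz.four hb2 hR
  have hρR : ⁅b2, v⁆ ∈ rt y 3 ⊔ rt z 3 := mem_sup_right hρ
  have hcen : ∀ k ∈ Z, ∀ r ∈ rt y 3 ⊔ rt z 3, k * r * k⁻¹ = r :=
    fun k hk r hr => conj_eq_of_mem_centralizer hk.2 hr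
  have e1 : ⁅a, g⁻¹ * v * g⁆ = ⁅b2, v⁆ := by
    have : ⁅g * a * g⁻¹, v⁆ = ⁅b2, v⁆ := by
      rw [e]; exact comm_right (com h (UU_le_LL hb1) (UU_le_LL hv)) (com h (UU_le_LL hb1) (UU_le_LL hb2))
    rw [← hcen g⁻¹ (inv_mem hg) _ hρR, ← this, conj_comm]
    congr 1 <;> group
  let V := stab Z _ (inf_le_right : Z ≤ Cs (rt y 3 ⊔ rt z 3)) a
  have hA : zpowers a ⊔ UU z ≤ V := by
    refine sup_le (zpowers_le.2 ⟨hUZ haU, ?_⟩) fun u hu => ⟨hUZ (mem_sup_right hu), ?_⟩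
    · rw [commutatorElement_self]; exact one_mem _
    · rw [commutatorElement_eq_one_iff_commute.2 (com_of (S_le_Cs h ha) hu).symm]; exact one_mem _
  obtain ⟨T, hT, hAT⟩ := exists_isSylowIn_ge (p := 2)
    ((two_U h).to_le (sup_le (zpowers_le.2 haU) le_sup_right)) hA
  have hv' : g⁻¹ * v * g ∈ V := by
    refine ⟨mul_mem (mul_mem (inv_mem hg) (hUZ (mem_sup_right hv))) hg, ?_⟩
    rw [← commutatorElement_inv, e1]
    exact inv_mem hρR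
  have hv2 : IsPGroup 2 (zpowers (g⁻¹ * v * g)) := by
    have := (Comp.Tw.of_mem (two_U h) (mem_sup_right hv)).conj g⁻¹
    rw [inv_inv] at this
    exact this.isPGroup
  obtain ⟨k, hk, hkT⟩ := hT.exists_cj_le hv2 (zpowers_le.2 hv')
  have hw : k * (g⁻¹ * v * g) * k⁻¹ ∈ T := cj_le_iff.1 hkT _ (mem_zpowers _)
  set w := k * (g⁻¹ * v * g) * k⁻¹ with hwdef
  have hTZ : T ≤ Z := fun u hu => (hT.le hu).1
  have e2 : ⁅a, w⁆ = ⁅b2, v⁆ := by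
    have e3 : k * a * k⁻¹ = ⁅k, a⁆ * a := by rw [commutatorElement_def]; group
    rw [← hcen k hk.1 _ hρR, ← e1, conj_comm, e3]
    exact (comm_right (com_of (hTZ hw).2 hk.2).symm (com_of (hUZ haU).2 hk.2).symm).symm
  obtain ⟨j, hj, hjT⟩ := (syl_ZR h).exists_cj_le hT.isPGroup hTZ
  obtain ⟨a1, ha1, a2, ha2, ea⟩ :=
    decU h (cj_le_iff.1 hjT a (hAT (mem_sup_left (mem_zpowers a))))
  obtain ⟨w1, hw1, w2, hw2, ew⟩ := decU h (cj_le_iff.1 hjT w hw)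
  have c12 := com h (UU_le_LL ha1) (UU_le_LL ha2)
  have e4 : ⁅a1, w1⁆ * ⁅a2, w2⁆ = 1 * ⁅b2, v⁆ := by
    rw [one_mul, ← hcen j hj _ hρR, ← e2, conj_comm, ea, ew]
    exact (comm_mul (com h (UU_le_LL ha1) (UU_le_LL hw2)) (com h (UU_le_LL hw1) (UU_le_LL ha2)).symm
      c12 (com h (UU_le_LL hw1) (UU_le_LL hw2))).symm
  have e5 : ⁅a2, w2⁆ = ⁅b2, v⁆ :=
    (un h (UU_le_LL (comm_mem_left ha1 (le_normalizer hw1))) (one_mem _)
      (UU_le_LL (comm_mem_left ha2 (le_normalizer hw2))) (rt_le_LL 3 hρ) e4).2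
  have hWU : cj j (UU z) ≤ UU y ⊔ UU z := (cj_mono j (le_sup_right.trans hAT)).trans hjT
  have hW2 : IsPGroup 2 (cj j (UU z)) := (two_U h).to_le hWU
  have hd : cj j (UU z) ⊓ UU y = ⊥ := by
    by_contra hne
    have hn : cj j (UU z) ≤ Ns (cj j (UU z) ⊓ UU y) :=
      le_Ns_inf le_normalizer (hWU.trans (sup_le le_normalizer
        ((le_Cs' h.symm UU_le_LL UU_le_LL).trans Cs_le_Ns)))
    obtain ⟨c, hc, c1, -, hcc, -⟩ := Comp.exists_fix hW2 (hW2.to_le inf_le_left) hn hne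
    have hc2 : j⁻¹ * c * j ∈ rt z 3 := by
      refine (h.sz.s.z1 h.sz.inj h.sz.four (mem_cj.1 hc.1)).1 fun u hu => ?_
      have := (com_of hcc (conj_mem_cj.2 hu : j * u * j⁻¹ ∈ cj j (UU z))).eq
      calc j⁻¹ * c * j * u = j⁻¹ * (c * (j * u * j⁻¹)) * j := by group
        _ = u * (j⁻¹ * c * j) := by rw [this]; group
    have hc3 : c = j⁻¹ * c * j := by
      rw [← hcen j hj _ (mem_sup_right hc2)]; group
    have : c ∈ LL y ⊓ LL z := mem_inf.2 ⟨UU_le_LL hc.2, hc3 ▸ rt_le_LL 3 hc2⟩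
    rw [(es h).inf, mem_bot] at this
    exact c1 this
  have ha2R : a2 ∈ rt z 3 := by
    refine (h.sz.s.z1 h.sz.inj h.sz.four ha2).1 fun u hu => ?_
    obtain ⟨u1, hu1, hW⟩ := onto (le_Cs' h UU_le_LL UU_le_LL) hWU hd (card_cj j _) hu
    have c1 : Commute (a1 * a2) (u1 * u) := by
      have := (com_of (S_le_Cs h ha) (mem_cj.1 hW)).eq
      rw [← ea]
      calc j * a * j⁻¹ * (u1 * u) = j * (a * (j⁻¹ * (u1 * u) * j)) * j⁻¹ := by group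
        _ = u1 * u * (j * a * j⁻¹) := by rw [this]; group
    rw [← commutatorElement_eq_one_iff_commute] at c1 ⊢
    rw [comm_mul (com h (UU_le_LL ha1) (UU_le_LL hu)) (com h (UU_le_LL hu1) (UU_le_LL ha2)).symm
      c12 (com h (UU_le_LL hu1) (UU_le_LL hu)), ← mul_one 1] at c1
    exact (un h (UU_le_LL (comm_mem_left ha1 (le_normalizer hu1))) (one_mem _)
      (UU_le_LL (comm_mem_left ha2 (le_normalizer hu))) (one_mem _) c1).2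
  refine hρ1 ?_
  rw [← e5, commutatorElement_eq_one_iff_commute]
  exact com_of (h.sz.s.R_le_Cs ha2R) (UU_le_PA hw2)

theorem S_inf : (UU y ⊔ rt z 3) ⊓ (UU z ⊔ rt y 3) = rt y 3 ⊔ rt z 3 := by
  refine le_antisymm (fun g hg => ?_) (le_inf (sup_le_sup_right R_le_UU _)
    (sup_le le_sup_right (R_le_UU.trans le_sup_left)))
  obtain ⟨a, ha, b, hb, e⟩ := dec (le_Cs' h UU_le_LL (rt_le_LL 3)) hg.1
  obtain ⟨b', hb', a', ha', e'⟩ := dec (le_Cs' h.symm UU_le_LL (rt_le_LL 3)) hg.2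
  have := un h (UU_le_LL ha) (rt_le_LL 3 ha') (rt_le_LL 3 hb) (UU_le_LL hb')
    (by rw [← e, e', (com h (rt_le_LL 3 ha') (UU_le_LL hb')).eq])
  rw [e, this.1]
  exact mul_mem (mem_sup_left ha') (mem_sup_right hb)

theorem pf : ⁅ncl (UU y ⊔ rt z 3) (X ⊓ Cs (rt y 3 ⊔ rt z 3)),
    ncl (UU z ⊔ rt y 3) (X ⊓ Cs (rt y 3 ⊔ rt z 3))⁆ ≤
      (rt y 3 ⊔ rt z 3) ⊔ Oc (X ⊓ Cs (rt y 3 ⊔ rt z 3)) := by
  refine pfq (syl_ZR h) (sup_le_sup_left R_le_UU _)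
    (sup_le le_sup_right (R_le_UU.trans le_sup_left)) (S_inf h) inf_le_right ?_
    (fun a ha g hg hb => sc_S h ha hg hb) fun a ha g hg hb => ?_
  · rw [le_Cs_comm]
    refine sup_le (le_Cs_comm.1 (S_le_Cs h)) (le_sup_left.trans ((R_le_Cs h).trans (Cs_anti ?_)))
    exact (sup_le_sup_left R_le_UU _).trans (U_le_P h)
  · exact sc_S h.symm ha (by rw [sup_comm]; exact hg) (by rw [sup_comm]; exact hb)

theorem P_le_K : PA y ≤ ncl (UU y ⊔ rt z 3) (X ⊓ Cs (rt y 3 ⊔ rt z 3)) := by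
  have hU : UU y ≤ ncl (UU y ⊔ rt z 3) (X ⊓ Cs (rt y 3 ⊔ rt z 3)) := le_sup_left.trans le_ncl'
  rcases h.sy.pa_simple (N := ncl (UU y ⊔ rt z 3) (X ⊓ Cs (rt y 3 ⊔ rt z 3)) ⊓ PA y)
    (le_inf (QQ_le_UU.trans hU) QQ_le_PA) inf_le_right
    (le_Ns_inf ((le_sup_left.trans (P_le_ZR h)).trans le_Ns_ncl) le_normalizer) with e | e
  · have h0 : y 0 1 ∈ UU y := mem_sup_left (x_mem_rt 0 1)
    exact absurd (e ▸ mem_inf.2 ⟨hU h0, UU_le_PA h0⟩) (h.sy.x0_not_mem one_ne_zero)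
  · exact e.symm.le.trans inf_le_left

theorem K_le_M : ncl (UU y ⊔ rt z 3) (X ⊓ Cs (rt y 3 ⊔ rt z 3)) ≤ Ns (LL y ⊔ LL z) := by
  set Z := X ⊓ Cs (rt y 3 ⊔ rt z 3) with hZ
  set K1 := ncl (UU y ⊔ rt z 3) Z with hK1
  set K2 := ncl (UU z ⊔ rt y 3) Z with hK2
  set D := (rt y 3 ⊔ rt z 3) ⊔ Oc Z with hD
  have hpf : ⁅K1, K2⁆ ≤ D := pf h
  have hO : Oc Z ≤ Cs (LL y ⊔ LL z) := ok_ZR h
  have hRP : rt y 3 ⊔ rt z 3 ≤ PA y ⊔ PA z := (R_le_U h).trans (U_le_P h)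
  have hDM : D ≤ Ns (LL y ⊔ LL z) := sup_le (hRP.trans (P_le_M h)) (hO.trans Cs_le_Ns)
  have hZD : Z ≤ Ns D := le_Ns_sup (inf_le_right.trans Cs_le_Ns) le_Ns_Oc_self
  have hUZ : UU y ⊔ UU z ≤ Z := (U_le_P h).trans (P_le_ZR h)
  have hK1Z : K1 ≤ Z := ncl_le ((sup_le_sup_left R_le_UU _).trans hUZ)
  have hK2Z : K2 ≤ Z := ncl_le ((sup_le le_sup_right (R_le_UU.trans le_sup_left)).trans hUZ)
  have ht : cj t K1 = K2 := by
    rw [hK1, cj_ncl, cj_sup, t_U h, t_R h.symm, mem_Ns_iff.1 (t_Ns_ZR h)]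
  have hP1 : PA y ≤ K1 := P_le_K h
  have hP2 : PA z ≤ K2 := by
    have := P_le_K h.symm
    rw [sup_comm (rt z 3)] at this
    exact this
  have hK2E : K2 ≤ Ns (PA y ⊔ D) := by
    intro j hj
    refine mem_normalizer_of_cj_le ?_
    rw [cj_sup, mem_Ns_iff.1 (hZD (hK2Z hj))]
    refine sup_le (cj_le_iff.2 fun p hp => ?_) le_sup_right
    have e : j * p * j⁻¹ = p * ⁅p⁻¹, j⁆ := by rw [commutatorElement_def]; group
    rw [e]
    exact mul_mem (mem_sup_left hp)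
      (mem_sup_right (hpf (commutator_mem_commutator (hP1 (inv_mem hp)) hj)))
  have hK1E : K1 ≤ Ns (PA y ⊔ D) := by
    intro j hj
    have hj' : t * j * t⁻¹ ∈ K2 := ht ▸ conj_mem_cj.2 hj
    have hw : j * (t * j * t⁻¹) ∈ Ns (LL y ⊔ LL z) := by
      refine h.uq _ ?_
      have t2 : t⁻¹ = t := inv_eq_of_sq h.t2
      have e : j * (t * j * t⁻¹) * t * (j * (t * j * t⁻¹))⁻¹ = ⁅j, t * j * t⁻¹⁆ * t := by
        rw [commutatorElement_def, t2]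
        calc j * (t * j * t) * t * (j * (t * j * t))⁻¹
            = j * (t * j * t) * (t * t⁻¹) * j⁻¹ * t⁻¹ * j⁻¹ := by group
          _ = j * (t * j * t) * j⁻¹ * t⁻¹ * j⁻¹ * (t⁻¹ * t) := by group
          _ = _ := by group
      rw [e]
      exact mul_mem (hDM (hpf (commutator_mem_commutator hj hj'))) (t_mem_M h)
    have hwZ : j * (t * j * t⁻¹) ∈ Z := mul_mem (hK1Z hj) (hK2Z hj')
    obtain ⟨p, hp, hc⟩ := zr_dec h hwZ hw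
    have hwP : j * (t * j * t⁻¹) ∈ Ns (PA y) := by
      rw [← mul_inv_cancel_left p (j * (t * j * t⁻¹))]
      refine mul_mem ?_ (Cs_le_Ns (Cs_anti (PA_le_LL.trans le_sup_left) hc))
      exact (sup_le le_normalizer ((le_Cs' h.symm PA_le_LL PA_le_LL).trans Cs_le_Ns) :
        PA y ⊔ PA z ≤ Ns (PA y)) hp
    have := mul_mem (mem_Ns_sup hwP (hZD hwZ)) (inv_mem (hK2E hj'))
    rwa [mul_inv_cancel_right] at this
  have hKU : (UU y ⊔ UU z) ⊓ K1 ≤ PA y ⊔ D := by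
    intro u hu
    obtain ⟨a, ha, b, hb, rfl⟩ := decU h hu.1
    refine mul_mem (mem_sup_left (UU_le_PA ha)) (mem_sup_right (mem_sup_left (mem_sup_right ?_)))
    refine h.sz.zPA (UU_le_PA hb) fun q hq => ?_
    have hm : ⁅b, q⁆ ∈ LL z := PA_le_LL (comm_mem_left (UU_le_PA hb) (le_normalizer hq))
    have hd : ⁅b, q⁆ ∈ D := by
      rw [← comm_right (com h (UU_le_LL ha) (PA_le_LL hq)) (com h (UU_le_LL ha) (UU_le_LL hb))]
      exact hpf (commutator_mem_commutator hu.2 (hP2 hq))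
    obtain ⟨r, hr, o, ho, e⟩ := dec (le_Cs_comm.1 (Oc_le.trans inf_le_right)) hd
    have ho1 : o ∈ (LL y ⊔ LL z) ⊓ Cs (LL y ⊔ LL z) := by
      refine mem_inf.2 ⟨?_, hO ho⟩
      rw [← inv_mul_cancel_left r o, ← e]
      exact mul_mem (inv_mem (P_le_L h (hRP hr))) (mem_sup_right hm)
    rw [(es h).cent, mem_bot] at ho1
    rw [ho1, mul_one] at e
    exact left_R h.symm (by rw [sup_comm, e]; exact hr) hm
  have hsyl : IsSylowIn 2 ((UU y ⊔ UU z) ⊓ K1) K1 := (syl_ZR h).inf_normal_of_le le_Ns_ncl hK1Z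
  refine (ncl_le_iff.2 fun g hg => ?_).trans
    (sup_le (le_sup_left.trans (P_le_M h)) hDM : PA y ⊔ D ≤ _)
  obtain ⟨k, hk, hle⟩ := hsyl.exists_cj_le
    (isPGroup_cj ((two_U h).to_le (sup_le_sup_left R_le_UU _)) g) (cj_le_ncl hg)
  have := cj_le_iff_le_cj_inv.1 (hle.trans hKU)
  rwa [mem_Ns_iff.1 (inv_mem (hK1E hk))] at this

theorem ZR_le_M : X ⊓ Cs (rt y 3 ⊔ rt z 3) ≤ Ns (LL y ⊔ LL z) := by
  have hUZ := (U_le_P h).trans (P_le_ZR h)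
  have h2 : ncl (UU z ⊔ rt y 3) (X ⊓ Cs (rt y 3 ⊔ rt z 3)) ≤ Ns (LL y ⊔ LL z) := by
    have := K_le_M h.symm
    rw [sup_comm (rt z 3), sup_comm (LL z)] at this
    exact this
  have hsyl : IsSylowIn 2 (UU y ⊔ UU z) (ncl (UU y ⊔ rt z 3) (X ⊓ Cs (rt y 3 ⊔ rt z 3)) ⊔
      ncl (UU z ⊔ rt y 3) (X ⊓ Cs (rt y 3 ⊔ rt z 3))) :=
    (syl_ZR h).mono (sup_le_sup (le_sup_left.trans le_ncl') (le_sup_left.trans le_ncl'))
      (sup_le (ncl_le ((sup_le_sup_left R_le_UU _).trans hUZ))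
        (ncl_le ((sup_le le_sup_right (R_le_UU.trans le_sup_left)).trans hUZ)))
  exact (frattini hsyl (le_Ns_sup le_Ns_ncl le_Ns_ncl)).trans
    (sup_le (sup_le (K_le_M h) h2) h.Ns_UU)

end CSx

theorem FS.Ns_R {G F : Type*} [Group G] [Finite G] [Field F] [Finite F]
    {x : ZMod 12 → F → G} {t : G} {X : Subgroup G} {y z : ZMod 12 → F → G}
    (h : FS x t y z X) : Ns (rt y 3 ⊔ rt z 3) ≤ Ns (LL y ⊔ LL z) :=
  (frattini (CSx.syl_ZR h) fun n hn => mem_Ns_inf (CSx.mem_NsX h n) (mem_Ns_Cs hn)).trans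
    (sup_le (CSx.ZR_le_M h) h.Ns_UU)

end Cfsg.Lib.SG2
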